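import Groth.Agent.TameRecip.Curve
import Groth.Prelude.Def_W4c1etcurveeff2PicMod
import Mathlib.RingTheory.RootsOfUnity.AlgebraicallyClosed
import Mathlib.RingTheory.RootsOfUnity.EnoughRootsOfUnity
import Mathlib.GroupTheory.Coset.Card

/-! # The Picard group relative to a reduced modulus -/

set_option autoImplicit false
set_option linter.style.haveILetI false
set_option linter.unusedSectionVars false
set_option backward.isDefEq.respectTransparency false
universe u

open CategoryTheory AlgebraicGeometry WithZero W4c1etcurveeff2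

noncomputable section

namespace Groth.Agent.TameRecip

variable {k : Type u} [Field k] [IsAlgClosed k] {X : Scheme.{u}} [IsIntegral X]
  {c : X ⟶ Spec (CommRingCat.of k)} (hC : Curve.IsSmoothProperCurve k X c)

include hC in
theorem finite_ord (g : (X.functionField)ˣ) : (Function.support fun x : LocSym.Pt c => x.ord (g : X.functionField)).Finite := by
  haveI := hC.1
  exact (LocSymLib.finite_ord_ne_zero (c := c) (le_of_eq hC.2.2.2) _ g.ne_zero).subset fun x hx => hx

/-- The divisor of a rational function on rational points. -/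
def divF (g : (X.functionField)ˣ) : LocSym.Pt c →₀ ℤ := Finsupp.ofSupportFinite _ (finite_ord hC g)

theorem divF_apply (g : (X.functionField)ˣ) (x : LocSym.Pt c) : divF hC g x = x.ord (g : X.functionField) := rfl

theorem divF_mul (g h : (X.functionField)ˣ) : divF hC (g * h) = divF hC g + divF hC h :=
  Finsupp.ext fun x => LocSymLib.ord_mul hC x g.ne_zero h.ne_zero

theorem divF_one : divF hC (1 : (X.functionField)ˣ) = 0 := Finsupp.ext fun x => LocSymLib.ord_one hC x

theorem divF_inv (g : (X.functionField)ˣ) : divF hC g⁻¹ = -divF hC g :=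
  Finsupp.ext fun x => by
    rw [Finsupp.neg_apply, divF_apply, divF_apply, Units.val_inv_eq_inv_val, LocSymLib.ord_inv hC]

theorem divF_pow (g : (X.functionField)ˣ) (n : ℕ) : divF hC (g ^ n) = n • divF hC g := by
  induction n with
  | zero => rw [pow_zero, zero_smul, divF_one]
  | succ n ih => rw [pow_succ, divF_mul, ih, succ_nsmul]

theorem mem_principal {D : LocSym.Pt c →₀ ℤ} :
    D ∈ principal c ↔ ∃ g : (X.functionField)ˣ, D = divF hC g := by
  constructor
  · intro h
    induction h using AddSubgroup.closure_induction with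
    | mem D hD =>
      obtain ⟨g, hg, hD⟩ := hD
      exact ⟨Units.mk0 g hg, Finsupp.ext hD⟩
    | zero => exact ⟨1, (divF_one hC).symm⟩
    | add a b _ _ ha hb =>
      obtain ⟨g, rfl⟩ := ha
      obtain ⟨h, rfl⟩ := hb
      exact ⟨g * h, (divF_mul hC g h).symm⟩
    | neg a _ ha =>
      obtain ⟨g, rfl⟩ := ha
      exact ⟨g⁻¹, (divF_inv hC g).symm⟩
  · rintro ⟨g, rfl⟩
    exact AddSubgroup.subset_closure ⟨g, g.ne_zero, fun x => rfl⟩

theorem mem_principalMod {m : LocSym.Pt c →₀ ℕ} {D : divAway c m} :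
    D ∈ principalMod c m ↔ ∃ g : (X.functionField)ˣ, (D : LocSym.Pt c →₀ ℤ) = divF hC g ∧
      LocSym.Cong1 m (g : X.functionField) := by
  constructor
  · intro h
    induction h using AddSubgroup.closure_induction with
    | mem D hD =>
      obtain ⟨g, ⟨hg, hD⟩, hc⟩ := hD
      exact ⟨Units.mk0 g hg, Finsupp.ext hD, hc⟩
    | zero => exact ⟨1, (divF_one hC).symm, fun x _ => LocSymLib.cong_one m x⟩
    | add a b _ _ ha hb =>
      obtain ⟨g, hg, hgc⟩ := ha
      obtain ⟨h, hh, hhc⟩ := hb
      exact ⟨g * h, by rw [AddSubgroup.coe_add, hg, hh, divF_mul],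
        fun x hx => LocSymLib.cong_mul hC hx (hgc x hx) (hhc x hx)⟩
    | neg a _ ha =>
      obtain ⟨g, hg, hgc⟩ := ha
      refine ⟨g⁻¹, by rw [AddSubgroup.coe_neg, hg, divF_inv], fun x hx => ?_⟩
      rw [Units.val_inv_eq_inv_val]
      exact LocSymLib.cong_inv hC hx (hgc x hx)
  · rintro ⟨g, hg, hc⟩
    exact AddSubgroup.subset_closure ⟨g, ⟨g.ne_zero, fun x => by rw [hg]; rfl⟩, hc⟩

/-- Values multiply. -/
theorem valAt_mul (x : LocSym.Pt c) {g h : X.functionField} (hg : x.ord g = 0) (hh : x.ord h = 0) :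
    valAt hC x (g * h) = valAt hC x g * valAt hC x h := by
  letI := CurveFF.ffAlg c
  rw [LocSymLib.ord_eq hC] at hg hh
  exact val_mul (ff hC) _ (le_one_of_ord _ hg) (le_one_of_ord _ hh)

theorem valAt_ne_zero (x : LocSym.Pt c) {g : X.functionField} (hg0 : g ≠ 0) (hg : x.ord g = 0) :
    valAt hC x g ≠ 0 := by
  letI := CurveFF.ffAlg c
  rw [LocSymLib.ord_eq hC] at hg
  exact val_unit (ff hC) _ hg0 hg

theorem valAt_one (x : LocSym.Pt c) : valAt hC x (1 : X.functionField) = 1 :=
  valAt_of_hasValueAt hC x (Or.inl (map_one (LocSym.constFun c)).symm)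

include hC in
theorem cong1At_iff_value {m : LocSym.Pt c →₀ ℕ} {x : LocSym.Pt c} (hmx : m x = 1) {g : X.functionField}
    (hg : g ≠ 0) : LocSym.Cong1At m x g ↔ LocSym.HasValueAt x g 1 := by
  have hneg : x.ord (-1 : X.functionField) = 0 := by
    rw [← map_one (LocSym.constFun c), ← map_neg, LocSymLib.ord_constFun hC]
  unfold LocSym.Cong1At LocSym.HasValueAt
  rw [map_one, hmx]
  by_cases h1 : g = 1
  · simp [h1]
  · have hne : (1 : X.functionField) - g ≠ 0 := sub_ne_zero.2 (Ne.symm h1)
    rw [show g - 1 = -1 * (1 - g) by ring, LocSymLib.ord_mul hC x (neg_ne_zero.2 one_ne_zero) hne, hneg]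
    simp only [h1, false_or, Nat.cast_one]
    omega

include hC in
theorem exists_ord (m : LocSym.Pt c →₀ ℕ) (n : LocSym.Pt c → ℤ) :
    ∃ g : (X.functionField)ˣ, ∀ x ∈ m.support, x.ord (g : X.functionField) = n x := by
  letI := CurveFF.ffAlg c
  choose t ht using fun x : LocSym.Pt c => FunFld.exists_val (LocSymLib.placeAt hC x) (-n x)
  obtain ⟨h, hh⟩ := LocSymLib.exists_cong hC m fun x => Units.mk0 (t x) (FunFld.ne_zero_of_val _ (ht x))
  refine ⟨h, fun x hx => ?_⟩
  have h0 := LocSymLib.ord_eq_zero_of_cong hC hx (hh x hx)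
  rw [Units.val_div_eq_div_val, Units.val_mk0, div_eq_mul_inv,
    LocSymLib.ord_mul hC x h.ne_zero (inv_ne_zero (FunFld.ne_zero_of_val _ (ht x))), LocSymLib.ord_inv hC,
    LocSymLib.ord_eq hC x (t x), FunFld.ord_eq_of_val _ (ht x)] at h0
  omega

include hC in
/-- A function with prescribed values on a reduced modulus. -/
theorem exists_value (m : LocSym.Pt c →₀ ℕ) (hm : ∀ x, m x ≤ 1) (v : LocSym.Pt c → kˣ) :
    ∃ g : (X.functionField)ˣ, ∀ x ∈ m.support, x.ord (g : X.functionField) = 0 ∧
      valAt hC x (g : X.functionField) = v x := by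
  let C : LocSym.Pt c → (X.functionField)ˣ := fun x => Units.map (LocSym.constFun c).toMonoidHom (v x)
  obtain ⟨h, hh⟩ := LocSymLib.exists_cong hC m C
  refine ⟨h, fun x hx => ?_⟩
  have hmx : m x = 1 := le_antisymm (hm x) (Nat.one_le_iff_ne_zero.2 (Finsupp.mem_support_iff.1 hx))
  have hq : ((h / C x : (X.functionField)ˣ) : X.functionField) ≠ 0 := Units.ne_zero _
  have hv := (cong1At_iff_value hC hmx hq).1 (hh x hx)
  have h0 := ord_of_hasValueAt hC x one_ne_zero hv
  have hC0 : x.ord (C x : X.functionField) = 0 := LocSymLib.ord_constFun hC x _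
  have heq : (h : X.functionField) = (h / C x : (X.functionField)ˣ) * (C x : X.functionField) := by
    rw [Units.val_div_eq_div_val, div_mul_cancel₀ _ (C x).ne_zero]
  refine ⟨by rw [heq, LocSymLib.ord_mul hC x hq (C x).ne_zero, h0, hC0, add_zero], ?_⟩
  rw [heq, valAt_mul hC x h0 hC0, valAt_of_hasValueAt hC x hv, one_mul]
  exact valAt_of_hasValueAt hC x (Or.inl rfl)

include hC in
/-- A function with divisor zero is constant. -/
theorem exists_const_of_divF_eq_zero (g : (X.functionField)ˣ) (h : ∀ x : LocSym.Pt c, x.ord (g : X.functionField) = 0) :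
    ∃ a : kˣ, (g : X.functionField) = LocSym.constFun c (a : k) := by
  letI := CurveFF.ffAlg c
  by_cases ha : IsAlgebraic k (g : X.functionField)
  · obtain ⟨a, hag⟩ := (ff hC).2 _ ha
    have ha0 : a ≠ 0 := fun h0 => g.ne_zero (by rw [← hag, h0, map_zero])
    exact ⟨Units.mk0 a ha0, by rw [Units.val_mk0, LocSymLib.constFun_eq hC, ← hag]; rfl⟩
  · obtain ⟨P, hP⟩ := FunFld.exists_zero (ff hC) ha
    obtain ⟨x, rfl⟩ := placeAt_surjective hC P
    rw [← LocSymLib.ord_eq hC, h x] at hP
    exact absurd hP (lt_irrefl _)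

variable {m : LocSym.Pt c →₀ ℕ}

/-- The class of the divisor of a function without zero or pole on the modulus. -/
def cls (g : (X.functionField)ˣ) (hg : ∀ x ∈ m.support, x.ord (g : X.functionField) = 0) : PicMod c m :=
  QuotientAddGroup.mk ⟨divF hC g, fun x hx => hg x hx⟩

theorem cls_eq_zero_iff (hm : ∀ x, m x ≤ 1) (g : (X.functionField)ˣ)
    (hg : ∀ x ∈ m.support, x.ord (g : X.functionField) = 0) :
    cls hC g hg = 0 ↔ ∃ a : kˣ, ∀ x ∈ m.support, valAt hC x (g : X.functionField) = a := by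
  rw [cls, QuotientAddGroup.eq_zero_iff, mem_principalMod hC]
  constructor
  · rintro ⟨h, hd, hc⟩
    obtain ⟨a, ha⟩ := exists_const_of_divF_eq_zero hC (g / h) fun x => by
      rw [← divF_apply hC, div_eq_mul_inv, divF_mul, divF_inv, ← hd]
      simp
    refine ⟨a, fun x hx => ?_⟩
    have hmx : m x = 1 := le_antisymm (hm x) (Nat.one_le_iff_ne_zero.2 (Finsupp.mem_support_iff.1 hx))
    have hv := (cong1At_iff_value hC hmx h.ne_zero).1 (hc x hx)
    rw [show (g : X.functionField) = LocSym.constFun c (a : k) * h by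
        rw [← ha, Units.val_div_eq_div_val, div_mul_cancel₀ _ h.ne_zero],
      valAt_mul hC x (LocSymLib.ord_constFun hC x _) (ord_of_hasValueAt hC x one_ne_zero hv),
      valAt_of_hasValueAt hC x hv, valAt_of_hasValueAt hC x (Or.inl rfl), mul_one]
  · rintro ⟨a, ha⟩
    let C : (X.functionField)ˣ := Units.map (LocSym.constFun c).toMonoidHom a⁻¹
    refine ⟨g * C, Finsupp.ext fun x => ?_, fun x hx => ?_⟩
    · show x.ord (g : X.functionField) = x.ord ((g * C : (X.functionField)ˣ) : X.functionField)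
      rw [Units.val_mul, LocSymLib.ord_mul hC x g.ne_zero C.ne_zero,
        show x.ord (C : X.functionField) = 0 from LocSymLib.ord_constFun hC x _, add_zero]
    · have hmx : m x = 1 := le_antisymm (hm x) (Nat.one_le_iff_ne_zero.2 (Finsupp.mem_support_iff.1 hx))
      rw [cong1At_iff_value hC hmx (Units.ne_zero _)]
      have hC0 : x.ord (C : X.functionField) = 0 := LocSymLib.ord_constFun hC x _
      have h1 : valAt hC x ((g * C : (X.functionField)ˣ) : X.functionField) = 1 := by
        rw [Units.val_mul, valAt_mul hC x (hg x hx) hC0, ha x hx,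
          show valAt hC x (C : X.functionField) = ((a⁻¹ : kˣ) : k) from valAt_of_hasValueAt hC x (Or.inl rfl),
          Units.mul_inv]
      rw [← h1]
      exact hasValueAt_of_ord hC x (by rw [Units.val_mul, LocSymLib.ord_mul hC x g.ne_zero C.ne_zero, hg x hx, hC0, add_zero])

include hC in
theorem picModToPic_surjective : Function.Surjective (picModToPic c m) := by
  intro y
  induction y using QuotientAddGroup.induction_on with
  | H D =>
    obtain ⟨g, hg⟩ := exists_ord hC m fun x => D x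
    refine ⟨QuotientAddGroup.mk ⟨D - divF hC g, fun x hx => ?_⟩, ?_⟩
    · rw [Finsupp.sub_apply, divF_apply, hg x hx, sub_self]
    · show QuotientAddGroup.mk (D - divF hC g) = (QuotientAddGroup.mk D : Pic c)
      rw [QuotientAddGroup.eq]
      exact (mem_principal hC).2 ⟨g, by abel⟩

theorem picModToPic_eq_zero_iff (y : PicMod c m) :
    picModToPic c m y = 0 ↔
      ∃ (g : (X.functionField)ˣ) (hg : ∀ x ∈ m.support, x.ord (g : X.functionField) = 0), y = cls hC g hg := by
  induction y using QuotientAddGroup.induction_on with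
  | H D =>
    rw [show picModToPic c m (QuotientAddGroup.mk D) = (QuotientAddGroup.mk (D : LocSym.Pt c →₀ ℤ) : Pic c) from rfl,
      QuotientAddGroup.eq_zero_iff, mem_principal hC]
    constructor
    · rintro ⟨g, hg⟩
      exact ⟨g, fun x hx => by rw [← divF_apply hC, ← hg]; exact D.2 x hx,
        congrArg QuotientAddGroup.mk (Subtype.ext hg)⟩
    · rintro ⟨g, hg, h⟩
      obtain ⟨u, hu, -⟩ := (mem_principalMod hC).1 (QuotientAddGroup.eq.1 h)
      refine ⟨g * u⁻¹, ?_⟩
      rw [divF_mul, divF_inv, ← hu]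
      simp

/-! ### Families of values -/

variable (m) in
/-- The class attached to a family of values on the modulus. -/
def valCls (hm : ∀ x, m x ≤ 1) (v : LocSym.Pt c → kˣ) : PicMod c m :=
  cls hC (exists_value hC m hm v).choose fun x hx => ((exists_value hC m hm v).choose_spec x hx).1

theorem cls_eq_valCls (hm : ∀ x, m x ≤ 1) (v : LocSym.Pt c → kˣ) (g : (X.functionField)ˣ)
    (hg : ∀ x ∈ m.support, x.ord (g : X.functionField) = 0)
    (hv : ∀ x ∈ m.support, valAt hC x (g : X.functionField) = v x) : cls hC g hg = valCls hC m hm v := by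
  set h := (exists_value hC m hm v).choose
  have hs := (exists_value hC m hm v).choose_spec
  have hgh : ∀ x ∈ m.support, x.ord ((g / h : (X.functionField)ˣ) : X.functionField) = 0 := fun x hx => by
    rw [Units.val_div_eq_div_val, div_eq_mul_inv, LocSymLib.ord_mul hC x g.ne_zero (inv_ne_zero h.ne_zero),
      LocSymLib.ord_inv hC, hg x hx, (hs x hx).1, neg_zero, add_zero]
  rw [← sub_eq_zero]
  refine Eq.trans ?_ ((cls_eq_zero_iff hC hm (g / h) hgh).2 ⟨1, fun x hx => ?_⟩)
  · refine congrArg QuotientAddGroup.mk (Subtype.ext ?_)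
    show divF hC g - divF hC h = divF hC (g / h)
    rw [div_eq_mul_inv, divF_mul, divF_inv, sub_eq_add_neg]
  · have h1 : valAt hC x (g : X.functionField) =
        valAt hC x ((g / h : (X.functionField)ˣ) : X.functionField) * valAt hC x (h : X.functionField) := by
      rw [← valAt_mul hC x (hgh x hx) (hs x hx).1, Units.val_div_eq_div_val, div_mul_cancel₀ _ h.ne_zero]
    rw [hv x hx, (hs x hx).2] at h1
    rw [Units.val_one]
    exact (mul_eq_right₀ (v x).ne_zero).1 h1.symm

theorem valCls_mul (hm : ∀ x, m x ≤ 1) (v w : LocSym.Pt c → kˣ) :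
    valCls hC m hm (v * w) = valCls hC m hm v + valCls hC m hm w := by
  have hv := (exists_value hC m hm v).choose_spec
  have hw := (exists_value hC m hm w).choose_spec
  set g := (exists_value hC m hm v).choose
  set h := (exists_value hC m hm w).choose
  rw [← cls_eq_valCls hC hm (v * w) (g * h) (fun x hx => by
      rw [Units.val_mul, LocSymLib.ord_mul hC x g.ne_zero h.ne_zero, (hv x hx).1, (hw x hx).1, add_zero])
    (fun x hx => by
      rw [Units.val_mul, valAt_mul hC x (hv x hx).1 (hw x hx).1, (hv x hx).2, (hw x hx).2, Pi.mul_apply, Units.val_mul])]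
  exact congrArg QuotientAddGroup.mk (Subtype.ext (divF_mul hC g h))

/-- The class of a family of values, as a homomorphism. -/
def valHom (hm : ∀ x, m x ≤ 1) : Additive (LocSym.Pt c → kˣ) →+ PicMod c m :=
  AddMonoidHom.mk' (fun v => valCls hC m hm v.toMul) fun v w => valCls_mul hC hm v.toMul w.toMul

theorem valCls_eq_zero_iff (hm : ∀ x, m x ≤ 1) (v : LocSym.Pt c → kˣ) :
    valCls hC m hm v = 0 ↔ ∃ a : kˣ, ∀ x ∈ m.support, v x = a := by
  rw [valCls, cls_eq_zero_iff hC hm]
  have hs := (exists_value hC m hm v).choose_spec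
  exact ⟨fun ⟨a, ha⟩ => ⟨a, fun x hx => Units.ext ((hs x hx).2.symm.trans (ha x hx))⟩,
    fun ⟨a, ha⟩ => ⟨a, fun x hx => (hs x hx).2.trans (congrArg Units.val (ha x hx))⟩⟩

theorem picModToPic_valCls (hm : ∀ x, m x ≤ 1) (v : LocSym.Pt c → kˣ) :
    picModToPic c m (valCls hC m hm v) = 0 :=
  (picModToPic_eq_zero_iff hC _).2 ⟨_, _, rfl⟩

theorem exists_valCls (hm : ∀ x, m x ≤ 1) (y : PicMod c m) (hy : picModToPic c m y = 0) :
    ∃ v, y = valCls hC m hm v := by
  classical
  obtain ⟨g, hg, rfl⟩ := (picModToPic_eq_zero_iff hC y).1 hy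
  refine ⟨fun x => if h : x ∈ m.support then Units.mk0 _ (valAt_ne_zero hC x g.ne_zero (hg x h)) else 1,
    cls_eq_valCls hC hm _ g hg fun x hx => ?_⟩
  rw [dif_pos hx, Units.val_mk0]

include hC in
theorem exists_torsion_lift (hm : ∀ x, m x ≤ 1) {n : ℕ} (hn : 0 < n) (y : Pic c) (hy : n • y = 0) :
    ∃ x : PicMod c m, n • x = 0 ∧ picModToPic c m x = y := by
  obtain ⟨x, rfl⟩ := picModToPic_surjective hC (m := m) y
  rw [← map_nsmul] at hy
  obtain ⟨v, hv⟩ := exists_valCls hC hm _ hy
  have hroot : ∀ z, ∃ r : kˣ, r ^ n = v z := fun z => by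
    obtain ⟨r, hr⟩ := IsAlgClosed.exists_pow_nat_eq (v z : k) hn
    have hr0 : r ≠ 0 := fun h0 => (v z).ne_zero (by rw [← hr, h0, zero_pow hn.ne'])
    exact ⟨Units.mk0 r hr0, Units.ext hr⟩
  choose r hr using hroot
  refine ⟨x - valCls hC m hm r, ?_, by rw [map_sub, picModToPic_valCls, sub_zero]⟩
  rw [nsmul_sub, hv, sub_eq_zero, show n • valCls hC m hm r = valHom hC hm (n • Additive.ofMul r) from
    (map_nsmul (valHom hC hm) n (Additive.ofMul r)).symm]
  exact congrArg (valCls hC m hm) (funext fun z => (hr z).symm)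

/-- Roots of unity on the modulus, extended by one. -/
def muExt (n : ℕ) (m : LocSym.Pt c →₀ ℕ) : (m.support → rootsOfUnity n k) →* (LocSym.Pt c → kˣ) :=
  open Classical in
  MonoidHom.mk' (fun ζ x => if h : x ∈ m.support then (ζ ⟨x, h⟩ : kˣ) else 1) fun ζ η => funext fun x => by
    rw [Pi.mul_apply]
    split_ifs <;> simp

include hC in
theorem card_kernel_torsion (hm : ∀ x, m x ≤ 1) {n : ℕ} (hn : 0 < n) (hnk : (n : k) ≠ 0) :
    Nat.card {x : PicMod c m // n • x = 0 ∧ picModToPic c m x = 0} = n ^ (m.support.card - 1) := by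
  classical
  haveI : NeZero n := ⟨hn.ne'⟩
  haveI : NeZero (n : k) := ⟨hnk⟩
  let ψ : Additive (m.support → rootsOfUnity n k) →+ PicMod c m :=
    (valHom hC hm).comp (MonoidHom.toAdditive (muExt n m))
  have hψ : ∀ ζ, ψ ζ = valCls hC m hm (muExt n m ζ.toMul) := fun _ => rfl
  have hrange : ∀ y, y ∈ ψ.range ↔ n • y = 0 ∧ picModToPic c m y = 0 := by
    intro y
    constructor
    · rintro ⟨ζ, rfl⟩
      refine ⟨?_, picModToPic_valCls hC hm _⟩
      rw [← map_nsmul, show n • ζ = 0 from ?_, map_zero]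
      refine funext fun x => Subtype.ext ?_
      show ((ζ.toMul x) ^ n : rootsOfUnity n k).1 = 1
      rw [SubgroupClass.coe_pow]
      exact (mem_rootsOfUnity _ _).1 (ζ.toMul x).2
    · rintro ⟨hy, hy0⟩
      obtain ⟨v, rfl⟩ := exists_valCls hC hm y hy0
      rw [show n • valCls hC m hm v = valCls hC m hm (v ^ n) from
        (map_nsmul (valHom hC hm) n (Additive.ofMul v)).symm, valCls_eq_zero_iff hC hm] at hy
      obtain ⟨a, ha⟩ := hy
      obtain ⟨b, hb⟩ := IsAlgClosed.exists_pow_nat_eq (a : k) hn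
      have hb0 : b ≠ 0 := fun h0 => a.ne_zero (by rw [← hb, h0, zero_pow hn.ne'])
      let b' := Units.mk0 b hb0
      refine ⟨Additive.ofMul fun x => ⟨v x.1 * b'⁻¹, (mem_rootsOfUnity _ _).2 ?_⟩, ?_⟩
      · rw [mul_pow, show v x.1 ^ n = a from ha x.1 x.2, inv_pow, show b' ^ n = a from Units.ext hb, mul_inv_cancel]
      · rw [hψ, ← sub_eq_zero]
        refine Eq.trans ?_ ((valCls_eq_zero_iff hC hm (fun _ => b'⁻¹)).2 ⟨b'⁻¹, fun _ _ => rfl⟩)
        rw [sub_eq_iff_eq_add, ← valCls_mul hC hm]
        refine cls_eq_valCls hC hm _ _ _ fun x hx => ?_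
        rw [((exists_value hC m hm _).choose_spec x hx).2]
        simp [muExt, Finsupp.mem_support_iff.1 hx, mul_comm]
  rw [show Nat.card {x : PicMod c m // n • x = 0 ∧ picModToPic c m x = 0} = Nat.card ψ.range from
    Nat.card_congr (Equiv.subtypeEquivRight fun y => (hrange y).symm)]
  have hcardμ : Nat.card (rootsOfUnity n k) = n := HasEnoughRootsOfUnity.natCard_rootsOfUnity k n
  have htot : Nat.card (Additive (m.support → rootsOfUnity n k)) = n ^ m.support.card := by
    rw [Nat.card_congr Additive.toMul, Nat.card_pi, Finset.prod_const, hcardμ]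
    simp
  have hsplit := AddSubgroup.card_eq_card_quotient_mul_card_addSubgroup ψ.ker
  rw [Nat.card_congr (QuotientAddGroup.quotientKerEquivRange ψ).toEquiv, htot] at hsplit
  rcases m.support.eq_empty_or_nonempty with he | ⟨x₀, hx₀⟩
  · haveI : IsEmpty m.support := ⟨fun x => (Finset.notMem_empty x.1) (he ▸ x.2)⟩
    haveI : Subsingleton ψ.range := ⟨fun a b => by
      obtain ⟨_, ζ, rfl⟩ := a
      obtain ⟨_, η, rfl⟩ := b
      exact Subtype.ext (congrArg ψ (Additive.toMul.injective (funext fun x => isEmptyElim x)))⟩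
    have h0 : m.support.card = 0 := Finset.card_eq_zero.2 he
    rw [h0, Nat.card_of_subsingleton (0 : ψ.range), Nat.zero_sub, pow_zero]
  · have hker : Nat.card ψ.ker = n := by
      refine Eq.trans (Nat.card_congr (Equiv.ofBijective (fun ζ : ψ.ker => ζ.1.toMul ⟨x₀, hx₀⟩) ⟨?_, ?_⟩)) hcardμ
      · rintro ⟨ζ, hζ⟩ ⟨η, hη⟩ h
        refine Subtype.ext (Additive.toMul.injective (funext fun x => ?_))
        obtain ⟨a, ha⟩ := (valCls_eq_zero_iff hC hm _).1 ((hψ ζ).symm.trans hζ)
        obtain ⟨b, hb⟩ := (valCls_eq_zero_iff hC hm _).1 ((hψ η).symm.trans hη)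
        have e : ∀ (ζ : m.support → rootsOfUnity n k) (z : m.support), muExt n m ζ z.1 = (ζ z : kˣ) :=
          fun ζ z => dif_pos z.2
        refine Subtype.ext ?_
        rw [← e ζ.toMul, ← e η.toMul, ha _ x.2, hb _ x.2, ← ha _ hx₀, ← hb _ hx₀, e ζ.toMul ⟨x₀, hx₀⟩,
          e η.toMul ⟨x₀, hx₀⟩]
        exact congrArg Subtype.val h
      · intro a
        refine ⟨⟨Additive.ofMul fun _ => a, ?_⟩, rfl⟩
        rw [AddMonoidHom.mem_ker, hψ]
        exact (valCls_eq_zero_iff hC hm _).2 ⟨a, fun x hx => dif_pos hx⟩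
    rw [hker] at hsplit
    refine Nat.eq_of_mul_eq_mul_right hn (hsplit.symm.trans ?_)
    rw [← pow_succ, Nat.sub_add_cancel (Finset.card_pos.2 ⟨x₀, hx₀⟩)]

end Groth.Agent.TameRecip
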